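/-
The scans on a range of points.
-/
import Cfsg.Agent.Lib.Spor.Fi24Four.Test

namespace CfsgLib.Spor.Fi24Four

open CfsgLib.Spor.TC

set_option maxRecDepth 100000 in
theorem scan0 : RangeTest scanTest 0 5000 :=
  RangeTest.of_check (by decide +kernel)

set_option maxRecDepth 100000 in
theorem scan5000 : RangeTest scanTest 5000 10000 :=
  RangeTest.of_check (by decide +kernel)

set_option maxRecDepth 100000 in
theorem scan10000 : RangeTest scanTest 10000 15000 :=
  RangeTest.of_check (by decide +kernel)

set_option maxRecDepth 100000 in
theorem scan15000 : RangeTest scanTest 15000 20000 :=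
  RangeTest.of_check (by decide +kernel)

end CfsgLib.Spor.Fi24Four
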