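/-
The scans on a range of points.
-/
import Cfsg.Agent.Lib.Spor.Fi24Four.Test

namespace CfsgLib.Spor.Fi24Four

open CfsgLib.Spor.TC

set_option maxRecDepth 100000 in
theorem scan200000 : RangeTest scanTest 200000 205000 :=
  RangeTest.of_check (by decide +kernel)

set_option maxRecDepth 100000 in
theorem scan205000 : RangeTest scanTest 205000 210000 :=
  RangeTest.of_check (by decide +kernel)

set_option maxRecDepth 100000 in
theorem scan210000 : RangeTest scanTest 210000 215000 :=
  RangeTest.of_check (by decide +kernel)

set_option maxRecDepth 100000 in
theorem scan215000 : RangeTest scanTest 215000 220000 :=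
  RangeTest.of_check (by decide +kernel)

end CfsgLib.Spor.Fi24Four
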