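/-
The scans on all points.
-/
import Cfsg.Agent.Lib.Spor.Fi24Four.Scan.Part0
import Cfsg.Agent.Lib.Spor.Fi24Four.Scan.Part1
import Cfsg.Agent.Lib.Spor.Fi24Four.Scan.Part2
import Cfsg.Agent.Lib.Spor.Fi24Four.Scan.Part3
import Cfsg.Agent.Lib.Spor.Fi24Four.Scan.Part4
import Cfsg.Agent.Lib.Spor.Fi24Four.Scan.Part5
import Cfsg.Agent.Lib.Spor.Fi24Four.Scan.Part6
import Cfsg.Agent.Lib.Spor.Fi24Four.Scan.Part7
import Cfsg.Agent.Lib.Spor.Fi24Four.Scan.Part8
import Cfsg.Agent.Lib.Spor.Fi24Four.Scan.Part9
import Cfsg.Agent.Lib.Spor.Fi24Four.Scan.Part10
import Cfsg.Agent.Lib.Spor.Fi24Four.Scan.Part11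
import Cfsg.Agent.Lib.Spor.Fi24Four.Scan.Part12
import Cfsg.Agent.Lib.Spor.Fi24Four.Scan.Part13
import Cfsg.Agent.Lib.Spor.Fi24Four.Scan.Part14
import Cfsg.Agent.Lib.Spor.Fi24Four.Scan.Part15

namespace CfsgLib.Spor.Fi24Four

open CfsgLib.Spor.TC

set_option maxRecDepth 100000 in
theorem all_scan : RangeTest scanTest 0 306936 :=
  (((((scan0.append (scan5000.append scan10000)).append ((scan15000.append scan20000).append (scan25000.append scan30000))).append (((scan35000.append scan40000).append (scan45000.append scan50000)).append ((scan55000.append scan60000).append (scan65000.append scan70000)))).append ((((scan75000.append scan80000).append (scan85000.append scan90000)).append ((scan95000.append scan100000).append (scan105000.append scan110000))).append (((scan115000.append scan120000).append (scan125000.append scan130000)).append ((scan135000.append scan140000).append (scan145000.append scan150000))))).append ((((scan155000.append (scan160000.append scan165000)).append ((scan170000.append scan175000).append (scan180000.append scan185000))).append (((scan190000.append scan195000).append (scan200000.append scan205000)).append ((scan210000.append scan215000).append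 (scan220000.append scan225000)))).append ((((scan230000.append scan235000).append (scan240000.append scan245000)).append ((scan250000.append scan255000).append (scan260000.append scan265000))).append (((scan270000.append scan275000).append (scan280000.append scan285000)).append ((scan290000.append scan295000).append (scan300000.append scan305000))))))

end CfsgLib.Spor.Fi24Four
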