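/-
The scans on a range of points.
-/
import Cfsg.Agent.Lib.Spor.Fi24Four.Test

namespace CfsgLib.Spor.Fi24Four

open CfsgLib.Spor.TC

set_option maxRecDepth 100000 in
theorem scan220000 : RangeTest scanTest 220000 225000 :=
  RangeTest.of_check (by decide +kernel)

set_option maxRecDepth 100000 in
theorem scan225000 : RangeTest scanTest 225000 230000 :=
  RangeTest.of_check (by decide +kernel)

set_option maxRecDepth 100000 in
theorem scan230000 : RangeTest scanTest 230000 235000 :=
  RangeTest.of_check (by decide +kernel)

set_option maxRecDepth 100000 in
theorem scan235000 : RangeTest scanTest 235000 240000 :=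
  RangeTest.of_check (by decide +kernel)

end CfsgLib.Spor.Fi24Four
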